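import Cfsg.Agent.EqLemmas
import Cfsg.Agent.Lib.LinSpec.Basic
import Cfsg.Agent.Lib.LinSpec.Primary
import Cfsg.Agent.Lib.GLOrder.LinOrders
import Cfsg.Agent.Lib.PSLThree.Spectrum
import Cfsg.Agent.Lib.Zsigmondy.Basic

/-!
# The half torus orders in even degree: linear case
* `exists_big_factor`, `dvd_card_pow_sub_one_of_factor`
* `dvd_geom_iff`, `dvd_half_iff`
-/

set_option autoImplicit false
set_option linter.style.haveILetI false

namespace Cfsg.Agent.HalfTorus

open Polynomial Matrix

variable {F : Type*} [Field F] [Fintype F] {n : ℕ}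

/-- Some irreducible factor of the characteristic polynomial sees an `r`-part prime to the characteristic. -/
theorem exists_big_factor (hn : 0 < n) {x : Matrix (Fin n) (Fin n) F} {k r : ℕ} (hr : r.Prime)
    (hrF : (r : F) ≠ 0) (hord : orderOf (x ^ k) = r) :
    ∃ g : F[X], Irreducible g ∧ g.Monic ∧ g ∣ x.charpoly ∧ ¬ g ∣ X ^ k - 1 := by
  classical
  by_contra hcon
  push Not at hcon
  obtain ⟨p, hp⟩ := CharP.exists F
  haveI := hp
  haveI : Fact p.Prime := ⟨CharP.char_is_prime F p⟩
  haveI : Nonempty (Fin n) := ⟨⟨0, hn⟩⟩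
  haveI : CharP (Matrix (Fin n) (Fin n) F) p :=
    charP_of_injective_algebraMap (algebraMap F (Matrix (Fin n) (Fin n) F)).injective p
  have hne : x.charpoly ≠ 0 := (charpoly_monic x).ne_zero
  have hall : ∀ g ∈ UniqueFactorizationMonoid.normalizedFactors x.charpoly, g ∣ X ^ k - 1 := fun g hg =>
    hcon g (UniqueFactorizationMonoid.irreducible_of_normalized_factor g hg)
      (by
        have h0 := (UniqueFactorizationMonoid.irreducible_of_normalized_factor g hg).ne_zero
        have := Polynomial.monic_normalize h0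
        rwa [UniqueFactorizationMonoid.normalize_normalized_factor g hg] at this)
      (UniqueFactorizationMonoid.dvd_of_mem_normalizedFactors hg)
  have hdvd : x.charpoly ∣
      (X ^ k - 1 : F[X]) ^ Multiset.card (UniqueFactorizationMonoid.normalizedFactors x.charpoly) := by
    refine (UniqueFactorizationMonoid.prod_normalizedFactors hne).symm.dvd.trans ?_
    have : ∀ S : Multiset F[X], (∀ g ∈ S, g ∣ X ^ k - 1) → S.prod ∣ (X ^ k - 1 : F[X]) ^ Multiset.card S := by
      intro S hS
      induction S using Multiset.induction with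
      | empty => simp
      | cons g S ih =>
        rw [Multiset.prod_cons, Multiset.card_cons, pow_succ']
        exact mul_dvd_mul (hS g (Multiset.mem_cons_self g S)) (ih fun h hh => hS h (Multiset.mem_cons_of_mem hh))
    exact this _ hall
  set N := Multiset.card (UniqueFactorizationMonoid.normalizedFactors x.charpoly)
  have h0 : (x ^ k - 1) ^ N = 0 := by
    have := Polynomial.aeval_eq_zero_of_dvd_aeval_eq_zero hdvd (Matrix.aeval_self_charpoly x)
    simpa using this
  have h1 : (x ^ k) ^ p ^ N = 1 := by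
    have hle : N ≤ p ^ N := (Nat.lt_pow_self (Fact.out : p.Prime).one_lt).le
    have := pow_eq_zero_of_le hle h0
    rwa [sub_pow_char_pow_of_commute _ _ (Commute.one_right _), one_pow, sub_eq_zero] at this
  have h2 : r ∣ p ^ N := hord ▸ orderOf_dvd_of_pow_eq_one h1
  have h3 := (Nat.prime_dvd_prime_iff_eq hr Fact.out).1 (hr.dvd_of_dvd_pow h2)
  exact hrF (by rw [h3, CharP.cast_eq_zero])

theorem dvd_card_pow_sub_one_of_factor {x : Matrix (Fin n) (Fin n) F} {k r : ℕ} (hr : r.Prime)
    (hpow : x ^ (k * r) = 1) {g : F[X]} (hg : Irreducible g) (hgx : g ∣ x.charpoly) (hnk : ¬ g ∣ X ^ k - 1) :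
    r ∣ Fintype.card F ^ g.natDegree - 1 := by
  haveI := Fact.mk hg
  haveI : FiniteDimensional F (AdjoinRoot g) := (AdjoinRoot.powerBasis hg.ne_zero).finite
  haveI : Finite (AdjoinRoot g) := Module.finite_of_finite F
  have h1 : g ∣ X ^ (k * r) - 1 :=
    LinSpec.dvd_of_dvd_charpoly hg hgx (by rw [map_sub, map_pow, aeval_X, map_one, hpow, sub_self])
  rw [PSLThree.dvd_iff_root, map_sub, map_pow, aeval_X, map_one, sub_eq_zero] at h1 hnk
  haveI := Fact.mk hr
  have hord : orderOf (AdjoinRoot.root g ^ k) = r := orderOf_eq_prime (by rw [← pow_mul]; exact h1) hnk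
  have hne : AdjoinRoot.root g ^ k ≠ 0 := fun h0 => by
    rw [pow_mul, h0, zero_pow hr.ne_zero] at h1
    exact zero_ne_one h1
  rw [← hord]
  haveI := Fintype.ofFinite (AdjoinRoot g)
  refine orderOf_dvd_of_pow_eq_one ?_
  have hcard : Fintype.card (AdjoinRoot g) = Fintype.card F ^ g.natDegree := by
    rw [← Nat.card_eq_fintype_card, Module.natCard_eq_pow_finrank (K := F),
      (AdjoinRoot.powerBasis hg.ne_zero).finrank, AdjoinRoot.powerBasis_dim, Nat.card_eq_fintype_card]
  rw [← hcard]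
  exact FiniteField.pow_card_sub_one_eq_one _ hne

/-- `d`-th roots of unity lie in the ground field. -/
theorem exists_root_of_unity {K : Type*} [Field K] [Algebra F K] {z : K} {d : ℕ} (hd : d ∣ Fintype.card F - 1)
    (hz : z ^ d = 1) : ∃ c : F, algebraMap F K c = z := by
  obtain ⟨w, hw0, hw⟩ := PSLThree.exists_primitive (F := F)
  have hpos : 0 < Fintype.card F - 1 := by have := Fintype.one_lt_card (α := F); omega
  haveI : NeZero (Fintype.card F - 1) := ⟨hpos.ne'⟩
  have hprim : IsPrimitiveRoot (algebraMap F K w) (Fintype.card F - 1) :=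
    ((IsPrimitiveRoot.iff_orderOf).2 hw).map_of_injective (algebraMap F K).injective
  obtain ⟨i, -, hi⟩ := hprim.eq_pow_of_pow_eq_one (PSLThree.pow_one_of_dvd hz hd)
  exact ⟨w ^ i, by rw [map_pow, hi]⟩

/-- An element of `SL` with irreducible characteristic polynomial. -/
theorem pow_center_of_irreducible (g : SpecialLinearGroup (Fin n) F) (hn : 0 < n) {d e : ℕ}
    (hd : d ∣ Fintype.card F - 1) (hde : e * d = ∑ i ∈ Finset.range n, Fintype.card F ^ i)
    (hirr : Irreducible (g : Matrix (Fin n) (Fin n) F).charpoly) :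
    g ^ e ∈ Subgroup.center (SpecialLinearGroup (Fin n) F) := by
  haveI : Nonempty (Fin n) := ⟨⟨0, hn⟩⟩
  set f := (g : Matrix (Fin n) (Fin n) F).charpoly with hf
  haveI := Fact.mk hirr
  have hdeg : f.natDegree = n := by rw [hf, charpoly_natDegree_eq_dim, Fintype.card_fin]
  obtain ⟨hN, -⟩ := PSLThree.root_facts hirr (charpoly_monic _) hdeg
  have h1 : (-1 : F) ^ n * f.coeff 0 = 1 := by
    have := Matrix.det_eq_sign_charpoly_coeff (g : Matrix (Fin n) (Fin n) F)
    rw [g.2, Fintype.card_fin, ← hf] at this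
    exact this.symm
  rw [h1, map_one] at hN
  have hz : (AdjoinRoot.root f ^ e) ^ d = 1 := by rw [← pow_mul, hde]; exact hN.symm
  obtain ⟨c, hc⟩ := exists_root_of_unity hd hz
  have h0 : aeval (g : Matrix (Fin n) (Fin n) F) (X ^ e - C c) = 0 := by
    refine Polynomial.aeval_eq_zero_of_dvd_aeval_eq_zero ?_ (Matrix.aeval_self_charpoly _)
    rw [← hf, PSLThree.dvd_iff_root, map_sub, map_pow, aeval_X, aeval_C, hc, sub_self]
  rw [map_sub, map_pow, aeval_X, aeval_C, sub_eq_zero, ← Matrix.SpecialLinearGroup.coe_pow] at h0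
  rw [Matrix.SpecialLinearGroup.mem_center_iff]
  refine ⟨c, ?_, ?_⟩
  · have hdt := (g ^ e).2
    rw [h0, Matrix.algebraMap_eq_diagonal, Matrix.det_diagonal] at hdt
    simpa using hdt
  · rw [h0, Matrix.algebraMap_eq_diagonal]
    rfl

theorem dvd_geom_iff {q d : ℕ} (hq : 1 ≤ q) (hd : d ∣ q - 1) (m : ℕ) :
    d ∣ ∑ i ∈ Finset.range m, q ^ i ↔ d ∣ m := by
  rw [← ZMod.natCast_eq_zero_iff, ← ZMod.natCast_eq_zero_iff, Nat.cast_sum]
  have h1 : (q : ZMod d) = 1 := by
    have := (ZMod.natCast_eq_zero_iff (q - 1) d).2 hd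
    rwa [Nat.cast_sub hq, Nat.cast_one, sub_eq_zero] at this
  simp [h1]

theorem dvd_half_iff {a m : ℕ} (ha : 0 < a) (hm : 0 < m) :
    Nat.gcd (2 * m) a ∣ m ↔ padicValNat 2 a < padicValNat 2 (2 * m) := by
  haveI : Fact (Nat.Prime 2) := ⟨Nat.prime_two⟩
  have e : padicValNat 2 (2 * m) = padicValNat 2 m + 1 := by
    rw [padicValNat.mul two_ne_zero hm.ne', padicValNat.self (by norm_num), add_comm]
  constructor
  · intro h
    by_contra hc
    push Not at hc
    have h1 : 2 ^ padicValNat 2 (2 * m) ∣ a := (pow_dvd_pow 2 hc).trans pow_padicValNat_dvd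
    have h2 : 2 ^ padicValNat 2 (2 * m) ∣ m := (Nat.dvd_gcd pow_padicValNat_dvd h1).trans h
    have h3 := (padicValNat_dvd_iff_le hm.ne').1 h2
    omega
  · intro h
    set g := Nat.gcd (2 * m) a with hg
    have hg0 : g ≠ 0 := (Nat.gcd_pos_of_pos_right _ ha).ne'
    rw [← Nat.factorization_le_iff_dvd hg0 hm.ne']
    intro p
    by_cases hp2 : p = 2
    · subst hp2
      rw [Nat.factorization_def _ Nat.prime_two, Nat.factorization_def _ Nat.prime_two]
      have h1 : padicValNat 2 g ≤ padicValNat 2 a :=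
        (padicValNat_dvd_iff_le ha.ne').1 (pow_padicValNat_dvd.trans (Nat.gcd_dvd_right _ _))
      omega
    · have h1 := (Nat.factorization_le_iff_dvd hg0 (by omega : 2 * m ≠ 0)).2 (Nat.gcd_dvd_left _ _) p
      rw [Nat.factorization_mul two_ne_zero hm.ne', Finsupp.add_apply,
        Nat.Prime.factorization Nat.prime_two, Finsupp.single_apply, if_neg (Ne.symm hp2), zero_add] at h1
      exact h1

theorem geom_split (q m : ℕ) :
    ∑ i ∈ Finset.range (2 * m), q ^ i = (q ^ m + 1) * ∑ i ∈ Finset.range m, q ^ i := by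
  rw [two_mul, Finset.sum_range_add, add_mul, one_mul, Finset.mul_sum, add_comm]
  simp [pow_add]

theorem iff_linear {m : ℕ} (hm : 2 ≤ m) (hodd : Odd (Fintype.card F)) :
    (∃ g : ProjectiveSpecialLinearGroup (Fin (2 * m)) F, orderOf g = Fintype.card F ^ m + 1) ↔
      Nat.gcd (2 * m) (Fintype.card F - 1) ∣ m := by
  set q := Fintype.card F with hq
  set d := Nat.gcd (2 * m) (q - 1) with hd
  have hq2 : 2 ≤ q := Fintype.one_lt_card
  have hdq : d ∣ q - 1 := Nat.gcd_dvd_right _ _
  rw [← dvd_geom_iff (q := q) (by omega) hdq m]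
  set S := ∑ i ∈ Finset.range m, q ^ i with hS
  constructor
  · rintro ⟨y, hy⟩
    obtain ⟨r, hr, hrd, hrprim⟩ := Zsigmondy.exists_primitive (a := q) (n := 2 * m) (by omega) (by omega)
      (fun h => by rw [h.1] at hodd; exact absurd hodd (by decide)) (fun h => by omega)
    obtain ⟨g, rfl⟩ := QuotientGroup.mk'_surjective _ y
    have hrN : r ∣ q ^ m + 1 := by
      rw [pow_mul', show (q ^ m) ^ 2 - 1 = (q ^ m + 1) * (q ^ m - 1) by simpa using Nat.sq_sub_sq (q ^ m) 1] at hrd
      rcases hr.dvd_mul.1 hrd with h | h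
      · exact h
      · exact absurd h (hrprim m (by omega) (by omega))
    have hordg : q ^ m + 1 ∣ orderOf g := hy ▸ orderOf_map_dvd _ g
    set k := orderOf g / r
    have hkr : k * r = orderOf g := Nat.div_mul_cancel (hrN.trans hordg)
    let φ : SpecialLinearGroup (Fin (2 * m)) F →* Matrix (Fin (2 * m)) (Fin (2 * m)) F :=
      { toFun := Subtype.val, map_one' := rfl, map_mul' := fun _ _ => rfl }
    have hφ : orderOf (φ g) = orderOf g := orderOf_injective φ Subtype.val_injective _
    have hordk : orderOf ((φ g) ^ k) = r := by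
      have h0 := orderOf_pow_orderOf_div (x := φ g) (n := r) (hφ ▸ (orderOf_pos g).ne') (hφ ▸ hrN.trans hordg)
      rwa [hφ] at h0
    have hrF : (r : F) ≠ 0 := by
      intro h0
      haveI := Fact.mk hr
      obtain ⟨p, hp⟩ := CharP.exists F
      have hpr : p = r := ((Nat.dvd_prime hr).1 ((CharP.cast_eq_zero_iff F p r).1 h0)).resolve_left
        (CharP.char_ne_one F p)
      haveI : CharP F r := hpr ▸ hp
      obtain ⟨e, -, he⟩ := FiniteField.card F r
      have h1 : r ∣ q := by rw [hq, he]; exact dvd_pow_self r e.2.ne'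
      have h2 : r ∣ q ^ m := dvd_pow h1 (by omega)
      have h3 : r ∣ 1 := (Nat.dvd_add_right h2).1 hrN
      exact hr.ne_one (Nat.dvd_one.1 h3)
    obtain ⟨f, hf, hfm, hfx, hnk⟩ := exists_big_factor (x := φ g) (k := k) (by omega) hr hrF hordk
    have hrdeg := dvd_card_pow_sub_one_of_factor (x := φ g) hr (by rw [hkr, ← hφ, pow_orderOf_eq_one]) hf hfx hnk
    have hdeg : 2 * m ≤ f.natDegree := by
      by_contra hlt
      exact hrprim _ hf.natDegree_pos (by omega) hrdeg
    have heq : f = (φ g).charpoly := by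
      refine (Polynomial.eq_of_monic_of_dvd_of_natDegree_le hfm (charpoly_monic _) hfx ?_).symm
      rw [charpoly_natDegree_eq_dim, Fintype.card_fin]; exact hdeg
    have hirr : Irreducible (g : Matrix (Fin (2 * m)) (Fin (2 * m)) F).charpoly := heq ▸ hf
    have hdsum : d ∣ ∑ i ∈ Finset.range (2 * m), q ^ i :=
      (dvd_geom_iff (by omega) hdq _).2 (Nat.gcd_dvd_left _ _)
    have hc := pow_center_of_irreducible g (by omega) hdq
      (Nat.div_mul_cancel hdsum) hirr
    have hdvd : q ^ m + 1 ∣ (∑ i ∈ Finset.range (2 * m), q ^ i) / d := by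
      rw [← hy]
      refine orderOf_dvd_of_pow_eq_one ?_
      rw [← map_pow]
      exact (QuotientGroup.eq_one_iff _).2 hc
    rw [Nat.dvd_div_iff_mul_dvd hdsum, geom_split, mul_comm d] at hdvd
    exact Nat.dvd_of_mul_dvd_mul_left (by positivity) hdvd
  · rintro ⟨t, ht⟩
    obtain ⟨p, hp⟩ := CharP.exists F
    haveI := hp
    haveI : Fact p.Prime := ⟨CharP.char_is_prime F p⟩
    haveI : NeZero (2 * m) := ⟨by omega⟩
    set K := FiniteField.Extension F p (2 * m)
    obtain ⟨y, hy0, hy⟩ : ∃ y : K, y ≠ 0 ∧ orderOf y = q ^ (2 * m) - 1 := PSLThree.exists_gen (F := F) (2 * m) p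
    haveI : Finite K := Module.finite_of_finite F
    have hfr : Module.finrank F K = 2 * m := FiniteField.finrank_extension F p (2 * m)
    let B : Module.Basis (Fin (2 * m)) F K := (Module.finBasis F K).reindex (finCongr hfr)
    refine GLOrder.exists_psl_orderOf (ι := Fin (2 * m)) (Fintype.card_fin _)
      (M := Algebra.leftMulMatrix B (y ^ (q - 1))) ?_ ?_
    · rw [← Algebra.norm_eq_matrix_det, map_pow]
      exact FiniteField.pow_card_sub_one_eq_one _ (Algebra.norm_ne_zero_iff.2 hy0)
    intro j c hc hM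
    rw [← map_pow] at hM
    have hx := PSLThree.scalar_leftMul B hM
    have hcne : c ≠ 0 := fun h0 => by rw [h0, zero_pow (by omega)] at hc; exact zero_ne_one hc
    have hsum : q ^ (2 * m) - 1 = (q - 1) * ((q ^ m + 1) * S) := by
      rw [← geom_split]
      obtain ⟨r, hr⟩ : ∃ r, q = r + 1 := ⟨q - 1, by omega⟩
      rw [hr, Nat.add_sub_cancel, ← geom_sum_mul_add r (2 * m), Nat.add_sub_cancel, mul_comm]
    have h1 : q ^ (2 * m) - 1 ∣ (q - 1) * (j * (2 * m)) := by
      rw [← hy, ← mul_assoc]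
      refine orderOf_dvd_of_pow_eq_one ?_
      rw [pow_mul y ((q - 1) * j) (2 * m), pow_mul y (q - 1) j, hx, ← map_pow, hc, map_one]
    have h2 : q ^ (2 * m) - 1 ∣ (q - 1) * (j * (q - 1)) := by
      rw [← hy, ← mul_assoc]
      refine orderOf_dvd_of_pow_eq_one ?_
      rw [pow_mul, pow_mul, hx, ← map_pow, FiniteField.pow_card_sub_one_eq_one c hcne, map_one]
    rw [hsum] at h1 h2
    have hq0 : 0 < q - 1 := by omega
    have h3 := Nat.dvd_gcd (Nat.dvd_of_mul_dvd_mul_left hq0 h1) (Nat.dvd_of_mul_dvd_mul_left hq0 h2)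
    rw [Nat.gcd_mul_left, ← hd, ht, mul_comm j, ← mul_assoc, mul_comm (q ^ m + 1) d, mul_assoc] at h3
    exact Dvd.dvd.trans (Dvd.intro t rfl) (Nat.dvd_of_mul_dvd_mul_left (Nat.gcd_pos_of_pos_left _ (by omega)) h3)

end Cfsg.Agent.HalfTorus
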