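import Cfsg.Agent.Lib.HalfTorus.Linear
import Cfsg.Agent.Lib.LinSpec.Herm

/-!
# The half torus orders in even degree: unitary case
* `dvd_of_order` : an element of order `N` with `N * S * (q + 1) = q ^ (2 m) - 1` forces `gcd (2 m, q + 1) ∣ S`
* `exists_order` : the converse
* `dvd_cofactor_iff`
-/

set_option autoImplicit false
set_option linter.style.haveILetI false

namespace Cfsg.Agent.HalfTorus

open Polynomial Matrix

variable {F : Type*} [Field F] [Fintype F] {q : ℕ}

/-- The parameters: `N = q ^ m + 1` (`m` even) or `q ^ m - 1` (`m` odd), `S` the cofactor. -/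
theorem exists_cofactor (hq : 2 ≤ q) {m : ℕ} (hm : 2 ≤ m) :
    ∃ S, (if Even m then q ^ m + 1 else q ^ m - 1) * S * (q + 1) = q ^ (2 * m) - 1 ∧
      ∀ d, d ∣ q + 1 → (d ∣ S ↔ d ∣ m) := by
  obtain ⟨r, rfl⟩ : ∃ r, q = r + 1 := ⟨q - 1, by omega⟩
  have hz : ∀ d, d ∣ r + 1 + 1 → ((r + 1 : ℕ) : ZMod d) = -1 := fun d hd => by
    have h := (ZMod.natCast_eq_zero_iff (r + 1 + 1) d).2 hd
    push_cast at h ⊢
    linear_combination h
  have hprod : ((r + 1) ^ m + 1) * ((r + 1) ^ m - 1) = (r + 1) ^ (2 * m) - 1 := by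
    rw [pow_mul', show ((r + 1) ^ m) ^ 2 - 1 = ((r + 1) ^ m + 1) * ((r + 1) ^ m - 1) by
      simpa using Nat.sq_sub_sq ((r + 1) ^ m) 1]
  have hgeo : ∀ l, (∑ i ∈ Finset.range l, ((r + 1) ^ 2) ^ i) * (r * (r + 2)) + 1 = (r + 1) ^ (2 * l) := fun l => by
    rw [pow_mul, show (r + 1) ^ 2 = r * (r + 2) + 1 by ring]
    exact geom_sum_mul_add _ l
  rcases Nat.even_or_odd m with he | ho
  · obtain ⟨l, rfl⟩ := he
    refine ⟨r * ∑ i ∈ Finset.range l, ((r + 1) ^ 2) ^ i, ?_, fun d hd => ?_⟩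
    · rw [if_pos ⟨l, rfl⟩, ← hprod, mul_assoc]
      congr 1
      have := hgeo l
      rw [← two_mul, ← this, Nat.add_sub_cancel]
      ring
    · rw [← ZMod.natCast_eq_zero_iff, ← ZMod.natCast_eq_zero_iff]
      have e := hz d hd
      have er : (r : ZMod d) = -2 := by push_cast at e; linear_combination e
      push_cast at e ⊢
      rw [e, er]
      simp only [neg_one_sq, one_pow, Finset.sum_const, Finset.card_range, nsmul_eq_mul, mul_one]
      constructor <;> intro h <;> linear_combination -h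
  · obtain ⟨l, rfl⟩ := ho
    refine ⟨r * (r + 1) * (∑ i ∈ Finset.range l, ((r + 1) ^ 2) ^ i) + 1, ?_, fun d hd => ?_⟩
    · rw [if_neg (Nat.not_even_iff_odd.2 ⟨l, rfl⟩), ← hprod, mul_assoc, mul_comm ((r + 1) ^ (2 * l + 1) + 1)]
      congr 1
      rw [pow_succ (r + 1) (2 * l), ← hgeo l]
      ring
    · rw [← ZMod.natCast_eq_zero_iff, ← ZMod.natCast_eq_zero_iff]
      have e := hz d hd
      have er : (r : ZMod d) = -2 := by push_cast at e; linear_combination e
      push_cast at e ⊢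
      rw [e, er]
      simp only [neg_one_sq, one_pow, Finset.sum_const, Finset.card_range, nsmul_eq_mul, mul_one]
      constructor <;> intro h <;> linear_combination h

theorem q_succ_dvd_card_sub_one (hF : Fintype.card F = q ^ 2) : q + 1 ∣ Fintype.card F - 1 := by
  rw [hF, show q ^ 2 - 1 = (q + 1) * (q - 1) by simpa using Nat.sq_sub_sq q 1]
  exact Dvd.intro _ rfl

theorem dvd_sub_of_dvd_pow_sub {r a b c : ℕ} (hr : r.Prime) (hb : 1 ≤ b) (h1 : r ∣ b ^ a - 1)
    (h2 : r ∣ b ^ c - 1) : r ∣ b ^ Nat.gcd a c - 1 := by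
  have h := Nat.dvd_gcd h1 h2
  rwa [Nat.pow_sub_one_gcd_pow_sub_one] at h

theorem exists_degree_bound (hq : 2 ≤ q) (hodd : Odd q) {m : ℕ} (hm : 2 ≤ m) :
    ∃ r : ℕ, r.Prime ∧ r ∣ (if Even m then q ^ m + 1 else q ^ m - 1) ∧ ¬ r ∣ q ∧
      (∀ d, 0 < d → r ∣ (q ^ 2) ^ d - 1 → m ∣ d) ∧ (∀ d, d = m → Odd d → ¬ r ∣ q ^ d + 1) := by
  rcases Nat.even_or_odd m with he | ho
  · obtain ⟨r, hr, hrd, hprim⟩ := Zsigmondy.exists_primitive (a := q) (n := 2 * m) (by omega) (by omega)
      (fun h => by rw [h.1] at hodd; exact absurd hodd (by decide)) (fun h => by omega)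
    have hrN : r ∣ q ^ m + 1 := by
      rw [pow_mul', show (q ^ m) ^ 2 - 1 = (q ^ m + 1) * (q ^ m - 1) by simpa using Nat.sq_sub_sq (q ^ m) 1] at hrd
      exact (hr.dvd_mul.1 hrd).resolve_right (hprim m (by omega) (by omega))
    refine ⟨r, hr, by rwa [if_pos he], fun h => ?_, fun d hd h => ?_, fun d hd hdo => ?_⟩
    · exact hr.ne_one (Nat.dvd_one.1 ((Nat.dvd_add_right (dvd_pow h (by omega))).1 hrN))
    · rw [← pow_mul] at h
      have h' := dvd_sub_of_dvd_pow_sub hr (by omega) hrd h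
      have hg : 2 * m ≤ Nat.gcd (2 * m) (2 * d) := by
        by_contra hlt
        exact hprim _ (Nat.gcd_pos_of_pos_left _ (by omega)) (by omega) h'
      have : Nat.gcd (2 * m) (2 * d) = 2 * m := le_antisymm (Nat.gcd_le_left _ (by omega)) hg
      exact Nat.dvd_of_mul_dvd_mul_left two_pos (Nat.gcd_eq_left_iff_dvd.1 this)
    · subst hd; exact absurd hdo (Nat.not_odd_iff_even.2 he)
  · obtain ⟨r, hr, hrd, hprim⟩ := Zsigmondy.exists_primitive (a := q) (n := m) (by omega) (by omega)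
      (fun h => by rw [h.1] at hodd; exact absurd hodd (by decide))
      (fun h => by rw [h.1] at ho; exact absurd ho (by decide))
    refine ⟨r, hr, by rwa [if_neg (Nat.not_even_iff_odd.2 ho)], fun h => ?_, fun d hd h => ?_, fun d hd _ hp => ?_⟩
    · have h1 : 1 ≤ q ^ m := Nat.one_le_pow _ _ (by omega)
      have := Nat.dvd_sub (dvd_pow h (show m ≠ 0 by omega)) hrd
      rw [show q ^ m - (q ^ m - 1) = 1 by omega] at this
      exact hr.ne_one (Nat.dvd_one.1 this)
    · rw [← pow_mul] at h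
      have h' := dvd_sub_of_dvd_pow_sub hr (by omega) hrd h
      have hg : m ≤ Nat.gcd m (2 * d) := by
        by_contra hlt
        exact hprim _ (Nat.gcd_pos_of_pos_left _ (by omega)) (by omega) h'
      have h3 : m ∣ 2 * d := Nat.gcd_eq_left_iff_dvd.1 (le_antisymm (Nat.gcd_le_left _ (by omega)) hg)
      exact (Nat.Coprime.dvd_of_dvd_mul_left ho.coprime_two_right h3)
    · subst hd
      have h1 : 1 ≤ q ^ d := Nat.one_le_pow _ _ (by omega)
      have h2 : r ∣ 2 := by
        have := Nat.dvd_sub hp hrd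
        rwa [show q ^ d + 1 - (q ^ d - 1) = 2 by omega] at this
      have hr2 : r = 2 := (Nat.prime_dvd_prime_iff_eq hr Nat.prime_two).1 h2
      refine hprim 1 one_pos (by omega) ?_
      rw [hr2, pow_one]
      obtain ⟨k, rfl⟩ := hodd
      exact ⟨k, by omega⟩

theorem dvd_of_order (hF : Fintype.card F = q ^ 2) (hodd : Odd q) {m : ℕ} (hm : 2 ≤ m) {S : ℕ}
    (hS : (if Even m then q ^ m + 1 else q ^ m - 1) * S * (q + 1) = q ^ (2 * m) - 1)
    (hSd : ∀ d, d ∣ q + 1 → (d ∣ S ↔ d ∣ m))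
    {y : Cfsg.PSU (2 * m) F q} (hy : orderOf y = if Even m then q ^ m + 1 else q ^ m - 1) :
    Nat.gcd (2 * m) (q + 1) ∣ m := by
  classical
  have hq : 2 ≤ q := Unitary.two_le_q hF
  set N := (if Even m then q ^ m + 1 else q ^ m - 1) with hN
  set d := Nat.gcd (2 * m) (q + 1) with hd
  have hdq : d ∣ q + 1 := Nat.gcd_dvd_right _ _
  obtain ⟨r, hr, hrN, hrq, hdeg, hnot⟩ := exists_degree_bound hq hodd hm
  obtain ⟨g₀, rfl⟩ := QuotientGroup.mk'_surjective _ y
  let φ : Cfsg.SU (2 * m) F q →* Matrix (Fin (2 * m)) (Fin (2 * m)) F :=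
    { toFun := fun g => (g : SpecialLinearGroup (Fin (2 * m)) F).1, map_one' := rfl, map_mul' := fun _ _ => rfl }
  have hφinj : Function.Injective φ := fun a b h => Subtype.ext (Subtype.ext h)
  set x := φ g₀ with hx
  have hordx : N ∣ orderOf x := by
    rw [hx, orderOf_injective φ hφinj, ← hy]; exact orderOf_map_dvd _ g₀
  set k := orderOf x / r
  have hx0 : orderOf x ≠ 0 := by rw [hx, orderOf_injective φ hφinj]; exact (orderOf_pos g₀).ne'
  have hkr : k * r = orderOf x := Nat.div_mul_cancel (hrN.trans hordx)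
  have hordk : orderOf (x ^ k) = r := orderOf_pow_orderOf_div hx0 (hrN.trans hordx)
  have hxr : x ^ (k * r) = 1 := by rw [hkr]; exact pow_orderOf_eq_one _
  have hrF : (r : F) ≠ 0 := by
    intro h0
    haveI := Fact.mk hr
    obtain ⟨p, hp⟩ := CharP.exists F
    have hpr : p = r := ((Nat.dvd_prime hr).1 ((CharP.cast_eq_zero_iff F p r).1 h0)).resolve_left
      (CharP.char_ne_one F p)
    haveI : CharP F r := hpr ▸ hp
    obtain ⟨e, -, he⟩ := FiniteField.card F r
    have h1 : r ∣ q ^ 2 := by rw [← hF, he]; exact dvd_pow_self r e.2.ne'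
    exact hrq (hr.dvd_of_dvd_pow h1)
  have hn0 : 0 < 2 * m := by omega
  obtain ⟨g, hg, hgm, hgx, hnk⟩ := exists_big_factor (x := x) (k := k) hn0 hr hrF hordk
  haveI := Fact.mk hg
  haveI : FiniteDimensional F (AdjoinRoot g) := (AdjoinRoot.powerBasis hg.ne_zero).finite
  haveI : Finite (AdjoinRoot g) := Module.finite_of_finite F
  set α := AdjoinRoot.root g with hα
  have hmdeg : ∀ f : F[X], Irreducible f → f ∣ x.charpoly → ¬ f ∣ X ^ k - 1 → m ∣ f.natDegree :=
    fun f hf hfx hfk => hdeg _ hf.natDegree_pos (by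
      have := dvd_card_pow_sub_one_of_factor hr hxr hf hfx hfk
      rwa [hF] at this)
  have hxdet : x.det = 1 := (g₀ : SpecialLinearGroup (Fin (2 * m)) F).2
  have hcoeff : x.charpoly.coeff 0 = 1 := by
    have := Matrix.det_eq_sign_charpoly_coeff x
    rw [hxdet, Fintype.card_fin, pow_mul, neg_one_sq, one_pow, one_mul] at this
    exact this.symm
  have hg0 : g.coeff 0 ≠ 0 := fun h0 => by
    obtain ⟨c, hc⟩ := hgx
    rw [hc, mul_coeff_zero, h0, zero_mul] at hcoeff
    exact zero_ne_one hcoeff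
  have hα0 : α ≠ 0 := fun h0 => by
    have h1 : aeval α g = 0 := by rw [hα, AdjoinRoot.aeval_eq, AdjoinRoot.mk_self]
    rw [h0, ← coeff_zero_eq_aeval_zero'] at h1
    exact hg0 (by simpa using h1)
  have hunit : LinSpec.adj hF x * x = 1 :=
    (LinSpec.isUnitary_iff_adj hF x).1 g₀.2
  set β := (α ^ q)⁻¹ with hβ
  have hβroot : aeval β x.charpoly = 0 := by
    obtain ⟨v, hv, hrev⟩ := LinSpec.rev_charpoly hF hunit
    have h1 : aeval α x.charpoly = 0 := by rw [hα, ← PSLThree.dvd_iff_root]; exact hgx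
    have h2 := LinSpec.aeval_rev_root hF hα0 h1
    rw [hrev, map_mul, aeval_C, mul_eq_zero, map_eq_zero] at h2
    exact h2.resolve_left hv
  have hαk : α ^ (k * r) = 1 ∧ α ^ k ≠ 1 := by
    constructor
    · have h1 : g ∣ X ^ (k * r) - 1 :=
        LinSpec.dvd_of_dvd_charpoly hg hgx (by rw [map_sub, map_pow, aeval_X, map_one, hxr, sub_self])
      rwa [PSLThree.dvd_iff_root, map_sub, map_pow, aeval_X, map_one, sub_eq_zero] at h1
    · intro h1
      exact hnk (by rw [PSLThree.dvd_iff_root, map_sub, map_pow, aeval_X, map_one, sub_eq_zero]; exact h1)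
  haveI := Fact.mk hr
  have hordαk : orderOf (α ^ k) = r := orderOf_eq_prime (by rw [← pow_mul]; exact hαk.1) hαk.2
  -- the partner factor
  have hint : IsIntegral F β := Algebra.IsIntegral.isIntegral β
  set g' := minpoly F β with hg'
  have hg'i : Irreducible g' := minpoly.irreducible hint
  have hg'm : g'.Monic := minpoly.monic hint
  have hg'x : g' ∣ x.charpoly := minpoly.dvd F β hβroot
  have hg'k : ¬ g' ∣ X ^ k - 1 := by
    intro h
    have h1 := Polynomial.aeval_eq_zero_of_dvd_aeval_eq_zero h (minpoly.aeval F β)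
    rw [map_sub, map_pow, aeval_X, map_one, sub_eq_zero, hβ, inv_pow, inv_eq_one, ← pow_mul, mul_comm,
      pow_mul] at h1
    have := orderOf_dvd_of_pow_eq_one h1
    rw [hordαk] at this
    exact hrq this
  have hgg' : g ≠ g' := by
    intro he
    have h0 : aeval β g = 0 := (congrArg (aeval β) he).trans (minpoly.aeval F β)
    obtain ⟨ho, hsc⟩ := LinSpec.selfconj_root hF hg hg0 h0
    obtain ⟨c, hc⟩ := hmdeg g hg hgx hnk
    have hle : g.natDegree ≤ 2 * m := by
      have := Polynomial.natDegree_le_of_dvd hgx (charpoly_monic x).ne_zero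
      rwa [charpoly_natDegree_eq_dim, Fintype.card_fin] at this
    have hc1 : c = 1 := by
      have h1 : m * c ≤ m * 2 := by rw [← hc]; linarith
      have h2 := Nat.le_of_mul_le_mul_left h1 (by omega)
      have h3 := hg.natDegree_pos
      rw [hc] at ho h3
      interval_cases c
      · simp at h3
      · rfl
      · exact absurd (Nat.odd_mul.1 ho).2 (by decide)
    rw [hc1, mul_one] at hc
    refine hnot _ hc ho ?_
    have h2 := hsc g.natDegree dvd_rfl ho
    rw [← hordαk]
    refine orderOf_dvd_of_pow_eq_one ?_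
    rw [← pow_mul, mul_comm, pow_mul, pow_succ, h2, one_pow]
  obtain ⟨hdg, hdg', hfact⟩ : g.natDegree = m ∧ g'.natDegree = m ∧ x.charpoly = g * g' := by
    have hcop : IsCoprime g g' := (Irreducible.coprime_iff_not_dvd hg).2 fun h =>
      hgg' (eq_of_monic_of_associated hgm hg'm (hg.associated_of_dvd hg'i h))
    have hdvd := hcop.mul_dvd hgx hg'x
    have h1 := Nat.le_of_dvd hg.natDegree_pos (hmdeg g hg hgx hnk)
    have h2 := Nat.le_of_dvd hg'i.natDegree_pos (hmdeg g' hg'i hg'x hg'k)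
    have h3 := Polynomial.natDegree_le_of_dvd hdvd (charpoly_monic x).ne_zero
    rw [natDegree_mul hg.ne_zero hg'i.ne_zero, charpoly_natDegree_eq_dim, Fintype.card_fin] at h3
    refine ⟨by omega, by omega, (Polynomial.eq_of_monic_of_dvd_of_natDegree_le (hgm.mul hg'm) (charpoly_monic x)
      hdvd ?_).symm.symm⟩
    rw [charpoly_natDegree_eq_dim, Fintype.card_fin, natDegree_mul hg.ne_zero hg'i.ne_zero]
    omega
  haveI := Fact.mk hg'i
  set sigm := ∑ i ∈ Finset.range m, Fintype.card F ^ i with hsigm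
  obtain ⟨hNg, -⟩ := PSLThree.root_facts hg hgm hdg
  obtain ⟨hNg', -⟩ := PSLThree.root_facts hg'i hg'm hdg'
  let ι := AdjoinRoot.liftAlgHom g' (Algebra.ofId F (AdjoinRoot g)) β (minpoly.aeval F β)
  have hι : ι (AdjoinRoot.root g') = β := AdjoinRoot.liftAlgHom_root _ _ _ _
  have hprod : α ^ sigm * β ^ sigm = 1 := by
    have h1 := congrArg ι hNg'
    rw [AlgHom.commutes, map_pow, hι] at h1
    have hc01 := hcoeff
    rw [hfact, mul_coeff_zero] at hc01
    rw [← h1, ← hNg, ← map_mul, mul_mul_mul_comm, hc01, mul_one, ← mul_pow, neg_one_mul, neg_neg, one_pow, map_one]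
  have hsum : sigm * (q - 1) * (q + 1) = q ^ (2 * m) - 1 := by
    obtain ⟨t, rfl⟩ : ∃ t, q = t + 1 := ⟨q - 1, by omega⟩
    rw [hsigm, hF, Nat.add_sub_cancel, mul_assoc, pow_mul, show (t + 1) ^ 2 = t * (t + 1 + 1) + 1 by ring,
      ← geom_sum_mul_add, Nat.add_sub_cancel]
  have hT : α ^ (sigm * (q - 1)) = 1 := by
    have hne : (α ^ q) ^ sigm ≠ 0 := pow_ne_zero _ (pow_ne_zero _ hα0)
    rw [hβ, inv_pow, ← div_eq_mul_inv, div_eq_one_iff_eq hne] at hprod
    have h1 : α ^ (sigm * (q - 1)) * α ^ sigm = 1 * α ^ sigm := by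
      rw [← pow_add, one_mul]
      conv_rhs => rw [hprod, ← pow_mul]
      congr 1
      obtain ⟨t, rfl⟩ : ∃ t, q = t + 1 := ⟨q - 1, by omega⟩
      rw [Nat.add_sub_cancel]; ring
    exact mul_right_cancel₀ (pow_ne_zero _ hα0) h1
  have hTN : sigm * (q - 1) = N * S := Nat.eq_of_mul_eq_mul_right (Nat.succ_pos q) (hsum.trans hS.symm)
  obtain ⟨e, he⟩ : d ∣ sigm * (q - 1) := by
    have h2s : ∀ a : ℕ, a ∣ q + 1 → (a ∣ sigm * (q - 1) ↔ a ∣ 2 * m) := fun a ha => by
      rw [← ZMod.natCast_eq_zero_iff, ← ZMod.natCast_eq_zero_iff, hsigm, hF]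
      have e : (q : ZMod a) = -1 := by
        have h := (ZMod.natCast_eq_zero_iff (q + 1) a).2 ha
        push_cast at h
        linear_combination h
      push_cast [Nat.cast_sub (show 1 ≤ q by omega)]
      rw [e]
      simp only [neg_one_sq, one_pow, Finset.sum_const, Finset.card_range, nsmul_eq_mul, mul_one]
      constructor <;> intro h <;> linear_combination -h
    exact (h2s d hdq).2 (Nat.gcd_dvd_left _ _)
  have hz : (α ^ e) ^ d = 1 := by rw [← pow_mul, mul_comm, ← he, hT]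
  obtain ⟨c, hc⟩ := exists_root_of_unity (hdq.trans (q_succ_dvd_card_sub_one hF)) hz
  have hc' : β ^ e = algebraMap F (AdjoinRoot g) c := by
    rw [hc, hβ, inv_pow, ← pow_mul, mul_comm q e, pow_mul]
    refine inv_eq_of_mul_eq_one_right ?_
    rw [← pow_succ]
    exact PSLThree.pow_one_of_dvd hz hdq
  have hdvd : x.charpoly ∣ X ^ e - C c := by
    rw [hfact]
    refine IsCoprime.mul_dvd ((Irreducible.coprime_iff_not_dvd hg).2 fun h =>
      hgg' (eq_of_monic_of_associated hgm hg'm (hg.associated_of_dvd hg'i h))) ?_ ?_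
    · rw [PSLThree.dvd_iff_root, map_sub, map_pow, aeval_X, aeval_C, hc, sub_self]
    · exact minpoly.dvd F β (by rw [map_sub, map_pow, aeval_X, aeval_C, hc', sub_self])
  have hcen : g₀ ^ e ∈ Subgroup.center (Cfsg.SU (2 * m) F q) := by
    rw [Unitary.mem_center_SU_iff hF (by omega)]
    refine ⟨c, ?_⟩
    have h0 := Polynomial.aeval_eq_zero_of_dvd_aeval_eq_zero hdvd (Matrix.aeval_self_charpoly x)
    rw [map_sub, map_pow, aeval_X, aeval_C, sub_eq_zero, hx, ← map_pow, Matrix.algebraMap_eq_diagonal] at h0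
    exact h0
  have hNe : N ∣ e := by
    rw [← hy]
    refine orderOf_dvd_of_pow_eq_one ?_
    rw [← map_pow]
    exact (QuotientGroup.eq_one_iff _).2 hcen
  refine (hSd d hdq).1 (Nat.dvd_of_mul_dvd_mul_left (k := N) ?_ ?_)
  · rw [hN]
    have : 2 ≤ q ^ m := le_trans hq (Nat.le_self_pow (by omega) q)
    split_ifs <;> omega
  · rw [← hTN, he, mul_comm N]
    exact Nat.mul_dvd_mul_left d hNe

theorem exists_order (hF : Fintype.card F = q ^ 2) {m : ℕ} (hm : 2 ≤ m) {N S : ℕ}
    (hS : N * S * (q + 1) = q ^ (2 * m) - 1) (hd : Nat.gcd (2 * m) (q + 1) ∣ S) :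
    ∃ g : Cfsg.PSU (2 * m) F q, orderOf g = N := by
  classical
  have hq : 2 ≤ q := Unitary.two_le_q hF
  obtain ⟨p, hp⟩ := CharP.exists F
  haveI := hp
  haveI : Fact p.Prime := ⟨CharP.char_is_prime F p⟩
  haveI : NeZero m := ⟨by omega⟩
  set K := FiniteField.Extension F p m
  haveI : Finite K := Module.finite_of_finite F
  haveI := Fintype.ofFinite K
  obtain ⟨y, hy0, hy⟩ : ∃ y : K, y ≠ 0 ∧ orderOf y = q ^ (2 * m) - 1 := by
    obtain ⟨y, hy0, hy⟩ := PSLThree.exists_gen (F := F) m p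
    exact ⟨y, hy0, by rw [hy, hF, ← pow_mul]⟩
  have hfr : Module.finrank F K = m := FiniteField.finrank_extension F p m
  let σ := LinSpec.qHom hF K 1
  have hσ : ∀ z : K, σ z = z ^ q := fun z => congrArg (z ^ ·) (pow_one q)
  have hσF : ∀ c : F, σ (algebraMap F K c) = algebraMap F K (c ^ q) := fun c => by rw [hσ, map_pow]
  have hσsurj : Function.Surjective σ := Finite.surjective_of_injective σ.injective
  let Tr := Algebra.trace F K
  let h : K × K → K × K → F := fun u v => Tr (u.1 * σ v.2) + (Tr (v.1 * σ u.2)) ^ q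
  have H : Unitary.IsHerm q h := by
    refine ⟨fun a b c => ?_, fun c a b => ?_, fun a b => ?_⟩
    · simp only [h, Prod.fst_add, Prod.snd_add, add_mul, map_add, mul_add, Unitary.add_pow_q hF]
      ring
    · simp only [h, Prod.smul_fst, Prod.smul_snd, smul_mul_assoc, map_smul, smul_eq_mul]
      rw [show b.1 * σ (c • a.2) = (c ^ q) • (b.1 * σ a.2) by
        rw [Algebra.smul_def, Algebra.smul_def, map_mul, hσF]; ring,
        map_smul, smul_eq_mul, mul_pow, Unitary.pow_q_pow_q hF]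
      ring
    · simp only [h, Unitary.add_pow_q hF, Unitary.pow_q_pow_q hF]
      ring
  have hnd : Unitary.Nondeg h := by
    intro a ha
    have htr := Algebra.trace_ne_zero F K
    obtain ⟨w, hw⟩ : ∃ w, Tr w ≠ 0 := by
      by_contra hcon
      push Not at hcon
      exact htr (LinearMap.ext hcon)
    refine Prod.ext ?_ ?_
    · by_contra h1
      obtain ⟨e, he⟩ := hσsurj (w / a.1)
      have := ha (0, e)
      simp only [h, zero_mul, map_zero, zero_pow (show q ≠ 0 by omega), add_zero, he] at this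
      rw [mul_div_cancel₀ w h1] at this
      exact hw this
    · by_contra h1
      have hσ2 : σ a.2 ≠ 0 := fun h0 => h1 ((map_eq_zero σ).1 h0)
      have := ha (w / σ a.2, 0)
      simp only [h, map_zero, mul_zero, zero_add, div_mul_cancel₀ w hσ2] at this
      exact hw (pow_eq_zero_iff (show q ≠ 0 by omega) |>.1 this)
  have hfrV : Module.finrank F (K × K) = 2 * m := by rw [Module.finrank_prod, hfr, two_mul]
  obtain ⟨Φ, hΦu, -, hΦd⟩ := LinSpec.exists_transfer hF H hnd hfrV
  set γ : K := y ^ (q + 1) with hγ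
  have hγ0 : γ ≠ 0 := pow_ne_zero _ hy0
  set ε : K := (σ γ)⁻¹ with hε
  have he1 : ε * σ γ = 1 := inv_mul_cancel₀ (fun h0 => hγ0 (σ.injective (by rw [h0, map_zero])))
  let T : Module.End F (K × K) := (LinearMap.mulLeft F ε).prodMap (LinearMap.mulLeft F γ)
  have hT : ∀ u v, h (T u) (T v) = h u v := by
    intro u v
    simp only [h, T, LinearMap.prodMap_apply, LinearMap.mulLeft_apply, map_mul]
    rw [mul_mul_mul_comm, he1, one_mul, mul_mul_mul_comm ε v.1, he1, one_mul]
  have hdet : (Φ T).det = 1 := by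
    rw [hΦd, LinearMap.det_prodMap]
    show Algebra.norm F ε * Algebra.norm F γ = 1
    have h1 : Algebra.norm F γ = Algebra.norm F (σ γ) := by
      simp only [hσ, hγ, map_pow]
      exact (Unitary.pow_q_succ_fixed hF _).symm
    rw [h1, ← map_mul, he1, map_one]
  let g : Cfsg.SU (2 * m) F q := Unitary.suOfUnitary (Φ T) (hΦu T hT) hdet
  set z := QuotientGroup.mk' (Subgroup.center (Cfsg.SU (2 * m) F q)) g
  have hNdvd : N ∣ orderOf z := by
    have hc : g ^ orderOf z ∈ Subgroup.center (Cfsg.SU (2 * m) F q) := by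
      rw [← QuotientGroup.eq_one_iff]
      show QuotientGroup.mk' _ (g ^ orderOf z) = 1
      rw [map_pow, pow_orderOf_eq_one]
    obtain ⟨c, hc⟩ := (Unitary.mem_center_SU_iff hF (by omega) _).1 hc
    set j := orderOf z
    have hc2 : Φ T ^ j = algebraMap F (Matrix (Fin (2 * m)) (Fin (2 * m)) F) c := by
      rw [Matrix.algebraMap_eq_diagonal]
      simp only [Pi.algebraMap_def, Algebra.algebraMap_self, RingHom.id_apply]
      simpa [g, Matrix.scalar_apply] using hc
    have hTj : T ^ j = algebraMap F (Module.End F (K × K)) c := by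
      apply Φ.injective
      rw [map_pow, hc2, AlgEquiv.commutes]
    have hTpow : ∀ (i : ℕ) (u : K × K), (T ^ i) u = (ε ^ i * u.1, γ ^ i * u.2) := by
      intro i u
      induction i with
      | zero => simp
      | succ i ih =>
        rw [pow_succ', Module.End.mul_apply, ih]
        simp [T, pow_succ']
        constructor <;> ring
    have h2 := (hTpow j (1, 1)).symm.trans (congrArg (fun L : Module.End F (K × K) => L (1, 1)) hTj)
    simp only [Module.algebraMap_end_apply, Prod.smul_mk, mul_one, Prod.mk.injEq, ← Algebra.algebraMap_eq_smul_one]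
      at h2
    obtain ⟨hεj, hγj⟩ := h2
    have hcq : c ^ (q + 1) = 1 := by
      have h3 : (ε * σ γ) ^ j = 1 := by rw [he1, one_pow]
      rw [mul_pow, hεj, ← map_pow σ, hγj, hσF, ← map_mul, ← pow_succ'] at h3
      exact (algebraMap F K).injective (by rw [h3, map_one])
    have hcn : c ^ (2 * m) = 1 := by
      have hd' : ((Φ T) ^ j).det = 1 := by rw [Matrix.det_pow, hdet, one_pow]
      rw [hc2, Matrix.algebraMap_eq_diagonal, Matrix.det_diagonal] at hd'
      simpa using hd'
    have h4 : ∀ a, c ^ a = 1 → q ^ (2 * m) - 1 ∣ (q + 1) * (j * a) := fun a ha => by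
      rw [← hy, ← mul_assoc]
      refine orderOf_dvd_of_pow_eq_one ?_
      rw [pow_mul, pow_mul, ← hγ, hγj, ← map_pow, ha, map_one]
    have h5 := h4 _ hcn
    have h6 := h4 _ hcq
    rw [← hS, mul_comm (q + 1)] at h5 h6
    have h7 := Nat.dvd_gcd (Nat.dvd_of_mul_dvd_mul_right (Nat.succ_pos q) h5)
      (Nat.dvd_of_mul_dvd_mul_right (Nat.succ_pos q) h6)
    rw [Nat.gcd_mul_left] at h7
    obtain ⟨t, rfl⟩ := hd
    rw [mul_comm j, mul_comm N, mul_assoc] at h7
    exact Dvd.dvd.trans (Dvd.intro_left t rfl) (Nat.dvd_of_mul_dvd_mul_left (Nat.gcd_pos_of_pos_left _ (by omega)) h7)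
  exact ⟨z ^ (orderOf z / N), orderOf_pow_orderOf_div (orderOf_pos z).ne' hNdvd⟩

end Cfsg.Agent.HalfTorus
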